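import Groth.Agent.Proj16.DVRPath
import Mathlib

/-! A valuation ring of `κ(f y)` through a generic point of the boundary of `closure {y}` in a fibre. -/

set_option autoImplicit false
universe u

namespace Groth.Agent.ValThrough

open AlgebraicGeometry CategoryTheory Limits TopologicalSpace
open Groth.Agent.Proj16 (specMapResidue specMapResidue_fromSpecStalk)

variable {X S : Scheme.{u}} (f : X ⟶ S)

theorem exists_component_isGenericPoint {α : Type u} [TopologicalSpace α] [QuasiSober α] [T0Space α] (z : α)
    (h : ∀ w, w ⤳ z → w = z) : ∃ C ∈ irreducibleComponents α, IsGenericPoint z C := by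
  obtain ⟨C, hC, hzC⟩ := exists_mem_irreducibleComponents_subset_of_isIrreducible {z} isIrreducible_singleton
  have hg : IsGenericPoint hC.1.genericPoint C :=
    hC.1.isGenericPoint_genericPoint (isClosed_of_mem_irreducibleComponents C hC)
  exact ⟨C, hC, h _ (hg.specializes (hzC rfl)) ▸ hg⟩

set_option backward.isDefEq.respectTransparency.types false in
theorem exists_valuationRing {y x : X} (h : y ⤳ x) :
    ∃ (R : ValuationSubring (S.residueField (f y))) (V : ValuationSubring (X.residueField y))
      (hX : Spec (CommRingCat.of V) ⟶ X) (g : Spec (CommRingCat.of R) ⟶ S)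
      (ρ : R →+* V), IsLocalHom ρ ∧ Function.Injective ρ ∧
      hX (IsLocalRing.closedPoint V) = x ∧ hX (⊥ : PrimeSpectrum V) = y ∧
      g (IsLocalRing.closedPoint R) = f x ∧
      Spec.map (CommRingCat.ofHom R.subtype) ≫ g = S.fromSpecResidueField (f y) ∧
      hX ≫ f = Spec.map (CommRingCat.ofHom ρ) ≫ g := by
  have h₁ : (𝟙 X : X ⟶ X) y ⤳ x := h
  have h₂ : (𝟙 S : S ⟶ S) (f y) ⤳ f x := h.map f.continuous
  obtain ⟨V, hV, hVloc⟩ := IsLocalRing.exists_factor_valuationRing (specMapResidue h₁).hom
  let R := V.comap (f.residueFieldMap y).hom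
  let ρ : R →+* V := ((f.residueFieldMap y).hom.comp R.subtype).codRestrict V.toSubring fun r => r.2
  have hρi : Function.Injective ρ := fun a b hab =>
    Subtype.ext ((f.residueFieldMap y).hom.injective (congrArg Subtype.val hab))
  have hρl : IsLocalHom ρ := ⟨fun r hr => by
    obtain ⟨v, hv⟩ := hr.exists_right_inv
    have hv' : (f.residueFieldMap y).hom r.1 * v.1 = 1 := congrArg Subtype.val hv
    have hne : r.1 ≠ 0 := fun h0 => by simp [h0] at hv'
    refine IsUnit.of_mul_eq_one ⟨r.1⁻¹, ?_⟩ (Subtype.ext (mul_inv_cancel₀ hne))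
    show (f.residueFieldMap y).hom r.1⁻¹ ∈ V
    rw [map_inv₀, inv_eq_of_mul_eq_one_right hv']
    exact v.2⟩
  have hnat : ∀ a, (f.residueFieldMap y).hom ((specMapResidue h₂).hom a) =
      (specMapResidue h₁).hom ((f.stalkMap x).hom a) := by
    have : specMapResidue h₂ ≫ f.residueFieldMap y = f.stalkMap x ≫ specMapResidue h₁ := by
      simp only [specMapResidue, Scheme.Hom.stalkMap_id, Category.assoc,
        Scheme.residue_residueFieldMap]
      erw [Category.id_comp, Category.id_comp]
      exact Scheme.Hom.stalkSpecializes_stalkMap_assoc f _ _ h _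
    exact fun a => DFunLike.congr_fun (congrArg CommRingCat.Hom.hom this) a
  have hR : ∀ a, (specMapResidue h₂).hom a ∈ R := fun a => by
    show (f.residueFieldMap y).hom _ ∈ V
    rw [hnat]; exact hV _
  let gV : X.presheaf.stalk x ⟶ CommRingCat.of V :=
    CommRingCat.ofHom ((specMapResidue h₁).hom.codRestrict V.toSubring hV)
  let gR : S.presheaf.stalk (f x) ⟶ CommRingCat.of R :=
    CommRingCat.ofHom ((specMapResidue h₂).hom.codRestrict R.toSubring hR)
  have hcomm : gR ≫ CommRingCat.ofHom ρ = f.stalkMap x ≫ gV := by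
    ext a
    exact hnat a
  haveI : IsLocalHom gV.hom := hVloc
  haveI : IsLocalHom gR.hom := ⟨fun a ha => by
    refine (isUnit_map_iff (f.stalkMap x).hom a).1 ((isUnit_map_iff gV.hom _).1 ?_)
    rw [← show ρ (gR.hom a) = gV.hom ((f.stalkMap x).hom a) from DFunLike.congr_fun (congrArg CommRingCat.Hom.hom hcomm) a]
    exact ha.map ρ⟩
  refine ⟨R, V, Spec.map gV ≫ X.fromSpecStalk x, Spec.map gR ≫ S.fromSpecStalk (f x), ρ, hρl, hρi, ?_, ?_, ?_, ?_, ?_⟩
  · rw [Scheme.Hom.comp_apply,
      show Spec.map gV (IsLocalRing.closedPoint V) = IsLocalRing.closedPoint _ from IsLocalRing.comap_closedPoint gV.hom,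
      Scheme.fromSpecStalk_closedPoint]
  · have hb : (⊥ : PrimeSpectrum V) =
        Spec.map (CommRingCat.ofHom V.subtype) (IsLocalRing.closedPoint (X.residueField y)) := by
      refine PrimeSpectrum.ext (Ideal.ext fun a => ?_)
      show a ∈ (⊥ : Ideal V) ↔ V.subtype a ∈ IsLocalRing.maximalIdeal (X.residueField y)
      rw [IsLocalRing.maximalIdeal_eq_bot, Ideal.mem_bot, Ideal.mem_bot]
      exact (map_eq_zero_iff V.subtype Subtype.val_injective).symm
    rw [hb, ← Scheme.Hom.comp_apply, ← Spec.map_comp_assoc,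
      show gV ≫ CommRingCat.ofHom V.subtype = specMapResidue h₁ from rfl, specMapResidue_fromSpecStalk,
      Category.comp_id, Scheme.fromSpecResidueField_apply]
  · rw [Scheme.Hom.comp_apply,
      show Spec.map gR (IsLocalRing.closedPoint R) = IsLocalRing.closedPoint _ from IsLocalRing.comap_closedPoint gR.hom,
      Scheme.fromSpecStalk_closedPoint]
  · rw [← Spec.map_comp_assoc,
      show gR ≫ CommRingCat.ofHom R.subtype = specMapResidue h₂ from rfl, specMapResidue_fromSpecStalk,
      Category.comp_id]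
  · rw [Category.assoc, ← Scheme.SpecMap_stalkMap_fromSpecStalk, ← Spec.map_comp_assoc, ← hcomm,
      Spec.map_comp_assoc]

end Groth.Agent.ValThrough
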